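import Mathlib.RingTheory.GradedAlgebra.HomogeneousLocalization

/-!
# Generation of the degree-zero localisation away from a monomial in linear forms
-/

namespace GrothLib.MonAway

open HomogeneousLocalization BigOperators

variable {R A : Type*} [CommRing R] [CommRing A] [Algebra R A]
    (𝒜 : ℕ → Submodule R A) [GradedAlgebra 𝒜]

theorem val_mk_mul_pow {m : A} {d : ℕ} (hd : m ∈ 𝒜 d) (N : ℕ) (a : A) (ha : a ∈ 𝒜 (N • d)) :
    (Away.mk 𝒜 hd N a ha).val * (algebraMap A (Localization.Away m) m) ^ N =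
      algebraMap A (Localization.Away m) a := by
  rw [Away.val_mk, Localization.mk_eq_mk', ← map_pow]
  exact IsLocalization.mk'_spec (Localization.Away m) a ⟨m ^ N, Submonoid.pow_mem _ (Submonoid.mem_powers m) N⟩

theorem adjoin_eq_top {n : ℕ} (σ : Fin n → A) (hσ : ∀ i, σ i ∈ 𝒜 1) {s : ℕ} (hs : 0 < s)
    (hgen : ∀ i, Algebra.adjoin (𝒜 0)
      {z : Away 𝒜 (σ i) |
        ∃ f ∈ 𝒜 s, z.val = Localization.mk f ⟨σ i ^ s, Submonoid.pow_mem _ (Submonoid.mem_powers (σ i)) s⟩} = ⊤)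
    (K : Fin n → ℕ) (hK : ∑ i, K i = s) :
    Algebra.adjoin (𝒜 0)
      {z : Away 𝒜 (∏ i, σ i ^ K i) |
        ∃ f ∈ 𝒜 s, z.val = Localization.mk f ⟨∏ i, σ i ^ K i, Submonoid.mem_powers _⟩} = ⊤ := by
  classical
  set m := ∏ i, σ i ^ K i with hmdef
  set T : Subalgebra (𝒜 0) (Away 𝒜 m) := Algebra.adjoin (𝒜 0)
      {z : Away 𝒜 m | ∃ f ∈ 𝒜 s, z.val = Localization.mk f ⟨m, Submonoid.mem_powers _⟩}
  have hpm : ∀ L : Fin n → ℕ, ∏ j, σ j ^ L j ∈ 𝒜 (∑ j, L j) := fun L =>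
    SetLike.prod_mem_graded 𝒜 (fun j => L j) _ fun j _ => by
      simpa using SetLike.pow_mem_graded (L j) (hσ j)
  have hm : m ∈ 𝒜 s := hK ▸ hpm K
  have hT : ∀ a (ha : a ∈ 𝒜 s), Away.mk 𝒜 hm 1 a (by simpa using ha) ∈ T := fun a ha =>
    Algebra.subset_adjoin ⟨a, ha, by simp [Away.val_mk]⟩
  obtain ⟨i, hi⟩ : ∃ i, K i ≠ 0 := by
    by_contra h
    push Not at h
    simp [h] at hK
    omega
  set L : Fin n → ℕ := Function.update K i (K i - 1) with hLdef
  have hKL : ∀ j, K j = L j + (Pi.single i 1 : Fin n → ℕ) j := fun j => by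
    rcases eq_or_ne j i with rfl | hj
    · simp [hLdef]; omega
    · simp [hLdef, hj]
  have hL : (∑ j, L j) + 1 = s := by
    rw [← hK, Finset.sum_congr rfl fun j _ => hKL j, Finset.sum_add_distrib]
    simp
  set g := ∏ j, σ j ^ L j with hgdef
  have hg : g ∈ 𝒜 (∑ j, L j) := hpm L
  have hmg : m = σ i * g := by
    rw [hmdef, Finset.prod_congr rfl fun j _ => by rw [hKL j, pow_add], Finset.prod_mul_distrib,
      ← hgdef, mul_comm]
    congr 1
    rw [Finset.prod_eq_single i (fun j _ hj => by simp [hj]) (by simp)]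
    simp
  set φ := awayMapₐ 𝒜 hg hmg
  set M := algebraMap A (Localization.Away m) m with hMdef
  have hM : IsUnit M := IsLocalization.Away.algebraMap_isUnit m
  set ε := algebraMap A (Localization.Away m)
  have hφ : ∀ w, φ w ∈ T := by
    intro w
    have hw : φ w ∈ (⊤ : Subalgebra (𝒜 0) (Away 𝒜 (σ i))).map φ := ⟨w, trivial, rfl⟩
    rw [← hgen i, AlgHom.map_adjoin] at hw
    refine Algebra.adjoin_le ?_ hw
    rintro _ ⟨z, ⟨f, hf, hz⟩, rfl⟩
    have hz' : z = Away.mk 𝒜 (hσ i) s f (by simpa using hf) := by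
      apply val_injective
      rw [hz, Away.val_mk]
    have hb : ∀ j, σ j * g ∈ 𝒜 s := fun j => by
      have := SetLike.mul_mem_graded (hσ j) hg
      rwa [add_comm, hL] at this
    suffices H : φ z = Away.mk 𝒜 hm 1 f (by simpa using hf) *
        ∏ j, (Away.mk 𝒜 hm 1 (σ j * g) (by simpa using hb j)) ^ L j by
      rw [SetLike.mem_coe, H]
      exact mul_mem (hT f hf) (prod_mem fun j _ => pow_mem (hT _ (hb j)) _)
    subst hz'
    apply val_injective
    rw [show φ (Away.mk 𝒜 (hσ i) s f _) = _ from awayMap_mk 𝒜 hg hmg s (hσ i) f _]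
    refine (hM.pow s).mul_right_cancel ?_
    rw [val_mk_mul_pow]
    rw [val_mul, show ∀ F : Fin n → Away 𝒜 m, (∏ j, F j).val = ∏ j, (F j).val from fun F =>
      map_prod (algebraMap (Away 𝒜 m) (Localization.Away m)) F _]
    simp only [val_pow]
    have hMs : M ^ s = M ^ 1 * ∏ j, (M ^ 1) ^ L j := by
      rw [Finset.prod_pow_eq_pow_sum, ← hL, pow_one, pow_succ, mul_comm]
    rw [hMs, mul_mul_mul_comm, ← Finset.prod_mul_distrib]
    simp only [← mul_pow, hMdef]
    rw [val_mk_mul_pow, Finset.prod_congr rfl fun j _ => by rw [val_mk_mul_pow]]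
    simp only [← map_pow, ← map_prod, ← map_mul]
    congr 1
    simp only [mul_pow, Finset.prod_mul_distrib, Finset.prod_pow_eq_pow_sum, ← hgdef]
    rw [← hL, pow_succ]
    ring
  rw [eq_top_iff]
  rintro z -
  obtain ⟨N, f, hf, rfl⟩ := Away.mk_surjective 𝒜 hm z
  have hu : σ i ^ s ∈ 𝒜 s := by simpa using SetLike.pow_mem_graded s (hσ i)
  have hfN : f ∈ 𝒜 ((N * s) • 1) := by simpa using hf
  suffices H : Away.mk 𝒜 hm N f hf =
      φ (Away.mk 𝒜 (hσ i) (N * s) f hfN) * (Away.mk 𝒜 hm 1 (σ i ^ s) (by simpa using hu)) ^ N by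
    rw [H]
    exact mul_mem (hφ _) (pow_mem (hT _ hu) _)
  apply val_injective
  rw [show φ (Away.mk 𝒜 (hσ i) (N * s) f _) = _ from awayMap_mk 𝒜 hg hmg (N * s) (hσ i) f _]
  refine (hM.pow (N * s + N)).mul_right_cancel ?_
  rw [val_mul, val_pow]
  rw [pow_add]
  conv_lhs => rw [mul_comm (M ^ (N * s)), ← mul_assoc, hMdef, val_mk_mul_pow, ← map_pow, ← map_mul]
  rw [mul_mul_mul_comm, val_mk_mul_pow, ← mul_pow]
  conv_rhs => rw [← pow_one M, hMdef, val_mk_mul_pow, ← map_pow, ← map_mul]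
  congr 1
  rw [hmg, mul_pow, ← pow_mul, mul_comm s N]
  ring

end GrothLib.MonAway
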